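import Mathlib

/-!
# Formal functions: algebra lemma A (graded Noetherian stabilisation), for helper12
-/

universe u

namespace Groth.Agent.Lib.Lead.FFAlg

open MvPolynomial

section

variable {A : Type u} [CommRing A] {σ : Type}
  {H : Type u} [AddCommGroup H] [Module (MvPolynomial σ A) H]

/-- an additive subgroup generated by a set stable (up to the subgroup) under the variables and the
constants is stable under all polynomials. -/
lemma smul_mem_closure (G : Set H)
    (hGX : ∀ g ∈ G, ∀ i : σ, (X i : MvPolynomial σ A) • g ∈ AddSubgroup.closure G)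
    (hGC : ∀ g ∈ G, ∀ c : A, (C c : MvPolynomial σ A) • g ∈ AddSubgroup.closure G)
    (p : MvPolynomial σ A) : ∀ h ∈ AddSubgroup.closure G, p • h ∈ AddSubgroup.closure G := by
  have hX : ∀ i : σ, ∀ h ∈ AddSubgroup.closure G,
      (X i : MvPolynomial σ A) • h ∈ AddSubgroup.closure G := by
    intro i h hh
    induction hh using AddSubgroup.closure_induction with
    | mem g hg => exact hGX g hg i
    | zero => rw [smul_zero]; exact zero_mem _
    | add x y _ _ hx hy => rw [smul_add]; exact add_mem hx hy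
    | neg x _ hx => rw [smul_neg]; exact neg_mem hx
  have hC : ∀ c : A, ∀ h ∈ AddSubgroup.closure G,
      (C c : MvPolynomial σ A) • h ∈ AddSubgroup.closure G := by
    intro c h hh
    induction hh using AddSubgroup.closure_induction with
    | mem g hg => exact hGC g hg c
    | zero => rw [smul_zero]; exact zero_mem _
    | add x y _ _ hx hy => rw [smul_add]; exact add_mem hx hy
    | neg x _ hx => rw [smul_neg]; exact neg_mem hx
  induction p using MvPolynomial.induction_on with
  | C a => exact hC a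
  | add p q hp hq =>
    intro h hh
    rw [add_smul]
    exact add_mem (hp h hh) (hq h hh)
  | mul_X p i hp =>
    intro h hh
    rw [mul_smul]
    exact hp _ (hX i h hh)

end

/-- TASK A (graded Noetherian stabilisation). -/
theorem graded_stabilize {A : Type u} [CommRing A] [IsNoetherianRing A] {σ : Type} [Finite σ]
    {H : Type u} [AddCommGroup H] [Module (MvPolynomial σ A) H] [Module.Finite (MvPolynomial σ A) H]
    (N : ℕ → Type u) [∀ k, AddCommGroup (N k)] [∀ k, Module A (N k)]
    (τ : ∀ k, σ → N k →ₗ[A] N (k + 1))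
    (ι : ∀ k, N k →+ H) (π : ∀ k, H →+ N k)
    (hπι : ∀ k y, π k (ι k y) = y) (hπι' : ∀ j k, j ≠ k → ∀ y, π j (ι k y) = 0)
    (hX : ∀ k i y, (MvPolynomial.X i : MvPolynomial σ A) • ι k y = ι (k + 1) (τ k i y))
    (hC : ∀ k (c : A) y, (MvPolynomial.C c : MvPolynomial σ A) • ι k y = ι k (c • y))
    (Q : ∀ k, Submodule A (N k)) (hQ : ∀ k i, (Q k).map (τ k i) ≤ Q (k + 1)) :
    ∃ d, ∀ k, d ≤ k → Q (k + 1) = ⨆ i, (Q k).map (τ k i) := by
  have hNoeth : IsNoetherian (MvPolynomial σ A) H := isNoetherian_of_isNoetherianRing_of_finite _ _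
  -- the chain of `P`-submodules generated by the pieces of degree `≤ m`
  let gen : ℕ → Set H := fun m => {h | ∃ j, j ≤ m ∧ ∃ q ∈ Q j, h = ι j q}
  let chain : ℕ →o Submodule (MvPolynomial σ A) H :=
    ⟨fun m => Submodule.span (MvPolynomial σ A) (gen m), by
      intro m m' hmm'
      apply Submodule.span_mono
      rintro h ⟨j, hj, q, hq, rfl⟩
      exact ⟨j, hj.trans hmm', q, hq, rfl⟩⟩
  obtain ⟨d, hd⟩ := monotone_stabilizes_iff_noetherian.2 hNoeth chain
  refine ⟨d, fun k hk => le_antisymm ?_ (iSup_le (hQ k))⟩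
  intro q hq
  set R : Submodule A (N (k + 1)) := ⨆ i, (Q k).map (τ k i) with hR
  -- generators of the comparison subgroup
  let G : Set H := {h | (∃ j, j ≤ k ∧ ∃ q ∈ Q j, h = ι j q) ∨ (∃ r ∈ R, h = ι (k + 1) r) ∨
    (∃ j, k + 2 ≤ j ∧ ∃ x : N j, h = ι j x)}
  have hGX : ∀ g ∈ G, ∀ i : σ, (X i : MvPolynomial σ A) • g ∈ AddSubgroup.closure G := by
    rintro g (⟨j, hj, q', hq', rfl⟩ | ⟨r, hr, rfl⟩ | ⟨j, hj, x, rfl⟩) i
    · rw [hX]
      apply AddSubgroup.subset_closure
      rcases Nat.lt_or_ge j k with hlt | hge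
      · exact Or.inl ⟨j + 1, hlt, τ j i q', hQ j i (Submodule.mem_map_of_mem hq'), rfl⟩
      · obtain rfl : j = k := le_antisymm hj hge
        refine Or.inr (Or.inl ⟨τ j i q', ?_, rfl⟩)
        exact (le_iSup (fun i => (Q j).map (τ j i)) i) (Submodule.mem_map_of_mem hq')
    · rw [hX]
      apply AddSubgroup.subset_closure
      exact Or.inr (Or.inr ⟨k + 1 + 1, le_rfl, _, rfl⟩)
    · rw [hX]
      apply AddSubgroup.subset_closure
      exact Or.inr (Or.inr ⟨j + 1, by omega, _, rfl⟩)
  have hGC : ∀ g ∈ G, ∀ c : A, (C c : MvPolynomial σ A) • g ∈ AddSubgroup.closure G := by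
    rintro g (⟨j, hj, q', hq', rfl⟩ | ⟨r, hr, rfl⟩ | ⟨j, hj, x, rfl⟩) c
    · rw [hC]
      exact AddSubgroup.subset_closure (Or.inl ⟨j, hj, c • q', (Q j).smul_mem c hq', rfl⟩)
    · rw [hC]
      exact AddSubgroup.subset_closure (Or.inr (Or.inl ⟨c • r, R.smul_mem c hr, rfl⟩))
    · rw [hC]
      exact AddSubgroup.subset_closure (Or.inr (Or.inr ⟨j, hj, _, rfl⟩))
  let S : Submodule (MvPolynomial σ A) H :=
    { carrier := (AddSubgroup.closure G : Set H)
      add_mem' := fun ha hb => add_mem ha hb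
      zero_mem' := zero_mem _
      smul_mem' := fun p h hh => smul_mem_closure G hGX hGC p h hh }
  -- the component of degree `k + 1` of an element of `S` lies in `R`
  have hπ : ∀ h ∈ AddSubgroup.closure G, π (k + 1) h ∈ R := by
    intro h hh
    induction hh using AddSubgroup.closure_induction with
    | mem g hg =>
      rcases hg with (⟨j, hj, q', hq', rfl⟩ | ⟨r, hr, rfl⟩ | ⟨j, hj, x, rfl⟩)
      · rw [hπι' (k + 1) j (by omega)]; exact zero_mem _
      · rw [hπι]; exact hr
      · rw [hπι' (k + 1) j (by omega)]; exact zero_mem _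
    | zero => rw [map_zero]; exact zero_mem _
    | add x y _ _ hx hy => rw [map_add]; exact add_mem hx hy
    | neg x _ hx => rw [map_neg]; exact neg_mem hx
  -- `ι (k+1) q` lies in `chain (k+1) = chain d ≤ S`
  have h1 : ι (k + 1) q ∈ chain (k + 1) :=
    Submodule.subset_span ⟨k + 1, le_rfl, q, hq, rfl⟩
  have h2 : chain (k + 1) = chain d := (hd (k + 1) (by omega)).symm
  have h3 : chain d ≤ S := by
    apply Submodule.span_le.2
    rintro h ⟨j, hj, q', hq', rfl⟩
    exact AddSubgroup.subset_closure (Or.inl ⟨j, hj.trans hk, q', hq', rfl⟩)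
  have h4 : ι (k + 1) q ∈ S := h3 (h2 ▸ h1)
  have h5 := hπ _ h4
  rwa [hπι] at h5

end Groth.Agent.Lib.Lead.FFAlg
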