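import Mathlib

/-!
# Formal functions: algebra lemmas B1, B2 (for helper12)
Completion versus inverse limit of a tower `Hn` receiving compatible maps from `H` whose kernels are
cofinal with the `I`-adic filtration and whose images satisfy a uniform Mittag-Leffler condition.
-/

universe u

namespace Groth.Agent.Lib.Lead.FFAlg

/-- the inverse limit of a tower of additive groups, as a subgroup of the product -/
def limSub (Hn : ℕ → Type u) [∀ n, AddCommGroup (Hn n)] (t : ∀ n, Hn (n + 1) →+ Hn n) :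
    AddSubgroup (∀ n, Hn n) where
  carrier := {x | ∀ n, t n (x (n + 1)) = x n}
  zero_mem' := by intro n; simp
  add_mem' := by intro x y hx hy n; simp [hx n, hy n]
  neg_mem' := by intro x hx n; simp [hx n]

section

variable {A : Type u} [CommRing A] (I : Ideal A) {H : Type u} [AddCommGroup H] [Module A H]
  (Hn : ℕ → Type u) [∀ n, AddCommGroup (Hn n)]
  (φ : ∀ n, H →+ Hn n) (t : ∀ n, Hn (n + 1) →+ Hn n)
  (T : ∀ n k, n ≤ k → (Hn k →+ Hn n))

lemma T_lim (hT0 : ∀ n (y : Hn n), T n n le_rfl y = y)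
    (hT1 : ∀ n k (h : n ≤ k) (y : Hn (k + 1)), T n (k + 1) (Nat.le_succ_of_le h) y = T n k h (t k y))
    (x : ∀ n, Hn n) (hx : x ∈ limSub Hn t) (n k : ℕ) (h : n ≤ k) : T n k h (x k) = x n := by
  induction k, h using Nat.le_induction with
  | base => exact hT0 n _
  | succ k h ih =>
    rw [hT1 n k h, hx k]
    exact ih

lemma T_phi (hT0 : ∀ n (y : Hn n), T n n le_rfl y = y)
    (hT1 : ∀ n k (h : n ≤ k) (y : Hn (k + 1)), T n (k + 1) (Nat.le_succ_of_le h) y = T n k h (t k y))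
    (hφ : ∀ n x, t n (φ (n + 1) x) = φ n x)
    (x : H) (n k : ℕ) (h : n ≤ k) : T n k h (φ k x) = φ n x := by
  induction k, h using Nat.le_induction with
  | base => exact hT0 n _
  | succ k h ih =>
    rw [hT1 n k h, hφ k]
    exact ih

/-- `φ n` descends to `H ⧸ I ^ (n + 1) H`. -/
noncomputable def phiBar (h0 : ∀ n, ∀ x ∈ (I ^ (n + 1) • (⊤ : Submodule A H)), φ n x = 0) (n : ℕ) :
    (H ⧸ (I ^ (n + 1) • (⊤ : Submodule A H))) →+ Hn n :=
  QuotientAddGroup.lift (I ^ (n + 1) • (⊤ : Submodule A H)).toAddSubgroup (φ n)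
    (fun x hx => by rw [AddMonoidHom.mem_ker]; exact h0 n x hx)

lemma phiBar_mk (h0 : ∀ n, ∀ x ∈ (I ^ (n + 1) • (⊤ : Submodule A H)), φ n x = 0) (n : ℕ) (x : H) :
    phiBar I Hn φ h0 n (Submodule.Quotient.mk x) = φ n x := rfl

/-- the comparison map from the adic completion to the inverse limit. -/
noncomputable def Phi (hφ : ∀ n x, t n (φ (n + 1) x) = φ n x)
    (h0 : ∀ n, ∀ x ∈ (I ^ (n + 1) • (⊤ : Submodule A H)), φ n x = 0) :
    AdicCompletion I H →+ limSub Hn t where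
  toFun a := ⟨fun n => phiBar I Hn φ h0 n (a.val (n + 1)), by
    intro n
    obtain ⟨f, rfl⟩ := AdicCompletion.mk_surjective I H a
    simp only [AdicCompletion.mk_apply_coe, Submodule.mkQ_apply, phiBar_mk]
    rw [hφ]
    have h1 : f (n + 1) ≡ f (n + 1 + 1) [SMOD (I ^ (n + 1) • ⊤ : Submodule A H)] :=
      f.property (Nat.le_succ (n + 1))
    have h2 : f (n + 1 + 1) - f (n + 1) ∈ (I ^ (n + 1) • ⊤ : Submodule A H) :=
      (SModEq.sub_mem.1 h1.symm)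
    have h3 := h0 n _ h2
    rw [map_sub, sub_eq_zero] at h3
    exact h3⟩
  map_zero' := by
    apply Subtype.ext
    funext n
    simp [AdicCompletion.val_zero]
  map_add' a b := by
    apply Subtype.ext
    funext n
    simp [AdicCompletion.val_add_apply]

lemma Phi_mk (hφ : ∀ n x, t n (φ (n + 1) x) = φ n x)
    (h0 : ∀ n, ∀ x ∈ (I ^ (n + 1) • (⊤ : Submodule A H)), φ n x = 0)
    (f : AdicCompletion.AdicCauchySequence I H) (n : ℕ) :
    (Phi I Hn φ t hφ h0 (AdicCompletion.mk I H f) : ∀ n, Hn n) n = φ n (f (n + 1)) := rfl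

lemma Phi_of (hφ : ∀ n x, t n (φ (n + 1) x) = φ n x)
    (h0 : ∀ n, ∀ x ∈ (I ^ (n + 1) • (⊤ : Submodule A H)), φ n x = 0)
    (x : H) (n : ℕ) :
    (Phi I Hn φ t hφ h0 (AdicCompletion.of I H x) : ∀ n, Hn n) n = φ n x := rfl

theorem Phi_injective (hφ : ∀ n x, t n (φ (n + 1) x) = φ n x)
    (h0 : ∀ n, ∀ x ∈ (I ^ (n + 1) • (⊤ : Submodule A H)), φ n x = 0)
    (h1 : ∃ c, ∀ n, c ≤ n → ∀ x, φ n x = 0 → x ∈ I ^ (n - c) • (⊤ : Submodule A H)) :
    Function.Injective (Phi I Hn φ t hφ h0) := by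
  rw [injective_iff_map_eq_zero]
  intro a ha
  obtain ⟨f, rfl⟩ := AdicCompletion.mk_surjective I H a
  obtain ⟨c, hc⟩ := h1
  apply AdicCompletion.mk_zero_of
  refine ⟨0, fun n _ => ⟨n + c + 1, by omega, n, le_rfl, ?_⟩⟩
  have h2 : φ (n + c) (f (n + c + 1)) = 0 := by
    have := congrArg (fun y : limSub Hn t => (y : ∀ n, Hn n) (n + c)) ha
    simpa [Phi_mk] using this
  have h3 := hc (n + c) (by omega) _ h2
  rwa [Nat.add_sub_cancel] at h3

theorem Phi_surjective (hT0 : ∀ n (y : Hn n), T n n le_rfl y = y)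
    (hT1 : ∀ n k (h : n ≤ k) (y : Hn (k + 1)), T n (k + 1) (Nat.le_succ_of_le h) y = T n k h (t k y))
    (hφ : ∀ n x, t n (φ (n + 1) x) = φ n x)
    (h0 : ∀ n, ∀ x ∈ (I ^ (n + 1) • (⊤ : Submodule A H)), φ n x = 0)
    (h1 : ∃ c, ∀ n, c ≤ n → ∀ x, φ n x = 0 → x ∈ I ^ (n - c) • (⊤ : Submodule A H))
    (h2 : ∃ c, ∀ n k (h : n ≤ k), n + c ≤ k → ∀ y : Hn k, ∃ x : H, φ n x = T n k h y) :
    Function.Surjective (Phi I Hn φ t hφ h0) := by
  intro x
  obtain ⟨c₁, hc₁⟩ := h1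
  obtain ⟨c₂, hc₂⟩ := h2
  have hex : ∀ n, ∃ g : H, φ n g = (x : ∀ n, Hn n) n := by
    intro n
    obtain ⟨g, hg⟩ := hc₂ n (n + c₂) (Nat.le_add_right n c₂) le_rfl ((x : ∀ n, Hn n) (n + c₂))
    exact ⟨g, by rw [hg, T_lim Hn t T hT0 hT1 _ x.2]⟩
  choose g hg using hex
  have hker : ∀ n, φ n (g (n + 1) - g n) = 0 := by
    intro n
    rw [map_sub, sub_eq_zero, ← hφ n (g (n + 1)), hg (n + 1), hg n]
    exact x.2 n
  have hcau : ∀ m, g (m + c₁) ≡ g (m + 1 + c₁) [SMOD (I ^ m • ⊤ : Submodule A H)] := by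
    intro m
    have h3 := hc₁ (m + c₁) (by omega) _ (hker (m + c₁))
    rw [Nat.add_sub_cancel] at h3
    have e : m + 1 + c₁ = m + c₁ + 1 := by omega
    rw [e]
    exact (SModEq.sub_mem.2 h3).symm
  let F : AdicCompletion.AdicCauchySequence I H :=
    AdicCompletion.AdicCauchySequence.mk I H (fun m => g (m + c₁)) hcau
  refine ⟨AdicCompletion.mk I H F, ?_⟩
  apply Subtype.ext
  funext n
  rw [Phi_mk]
  show φ n (g (n + 1 + c₁)) = _
  rw [← T_phi Hn φ t T hT0 hT1 hφ (g (n + 1 + c₁)) n (n + 1 + c₁) (by omega), hg,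
    T_lim Hn t T hT0 hT1 _ x.2]

end

/-- TASK B1 (completion versus limit). `T n k h : Hn k →+ Hn n` are the iterated transition maps. -/
theorem nonempty_adicCompletion_addEquiv_lim {A : Type u} [CommRing A] (I : Ideal A)
    {H : Type u} [AddCommGroup H] [Module A H]
    (Hn : ℕ → Type u) [∀ n, AddCommGroup (Hn n)]
    (φ : ∀ n, H →+ Hn n) (t : ∀ n, Hn (n + 1) →+ Hn n)
    (T : ∀ n k, n ≤ k → (Hn k →+ Hn n))
    (hT0 : ∀ n (y : Hn n), T n n le_rfl y = y)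
    (hT1 : ∀ n k (h : n ≤ k) (y : Hn (k + 1)), T n (k + 1) (Nat.le_succ_of_le h) y = T n k h (t k y))
    (hφ : ∀ n x, t n (φ (n + 1) x) = φ n x)
    (h0 : ∀ n, ∀ x ∈ (I ^ (n + 1) • (⊤ : Submodule A H)), φ n x = 0)
    (h1 : ∃ c, ∀ n, c ≤ n → ∀ x, φ n x = 0 → x ∈ I ^ (n - c) • (⊤ : Submodule A H))
    (h2 : ∃ c, ∀ n k (h : n ≤ k), n + c ≤ k → ∀ y : Hn k, ∃ x : H, φ n x = T n k h y) :
    Nonempty (AdicCompletion I H ≃+ limSub Hn t) :=
  ⟨AddEquiv.ofBijective (Phi I Hn φ t hφ h0)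
    ⟨Phi_injective I Hn φ t hφ h0 h1, Phi_surjective I Hn φ t T hT0 hT1 hφ h0 h1 h2⟩⟩

/-- TASK B2 (complete case). -/
theorem bijective_toLim_of_isAdicComplete {A : Type u} [CommRing A] (I : Ideal A)
    {H : Type u} [AddCommGroup H] [Module A H] [IsAdicComplete I H]
    (Hn : ℕ → Type u) [∀ n, AddCommGroup (Hn n)]
    (φ : ∀ n, H →+ Hn n) (t : ∀ n, Hn (n + 1) →+ Hn n)
    (T : ∀ n k, n ≤ k → (Hn k →+ Hn n))
    (hT0 : ∀ n (y : Hn n), T n n le_rfl y = y)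
    (hT1 : ∀ n k (h : n ≤ k) (y : Hn (k + 1)), T n (k + 1) (Nat.le_succ_of_le h) y = T n k h (t k y))
    (hφ : ∀ n x, t n (φ (n + 1) x) = φ n x)
    (h0 : ∀ n, ∀ x ∈ (I ^ (n + 1) • (⊤ : Submodule A H)), φ n x = 0)
    (h1 : ∃ c, ∀ n, c ≤ n → ∀ x, φ n x = 0 → x ∈ I ^ (n - c) • (⊤ : Submodule A H))
    (h2 : ∃ c, ∀ n k (h : n ≤ k), n + c ≤ k → ∀ y : Hn k, ∃ x : H, φ n x = T n k h y) :
    Function.Bijective (fun x : H => (⟨fun n => φ n x, fun n => hφ n x⟩ : limSub Hn t)) := by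
  have hof : Function.Bijective (AdicCompletion.of I H) :=
    AdicCompletion.of_bijective_iff.mpr inferInstance
  have hΦ : Function.Bijective (Phi I Hn φ t hφ h0) :=
    ⟨Phi_injective I Hn φ t hφ h0 h1, Phi_surjective I Hn φ t T hT0 hT1 hφ h0 h1 h2⟩
  have hcomp : (fun x : H => (⟨fun n => φ n x, fun n => hφ n x⟩ : limSub Hn t)) =
      (Phi I Hn φ t hφ h0) ∘ (AdicCompletion.of I H) := by
    funext x
    apply Subtype.ext
    funext n
    exact (Phi_of I Hn φ t hφ h0 x n).symm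
  rw [hcomp]
  exact hΦ.comp hof

end Groth.Agent.Lib.Lead.FFAlg
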