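import Mathlib

/-!
# Formal functions: algebra lemma B3 (for helper12)
A finite module over a Noetherian `I`-adically complete ring is `I`-adically complete.
-/

universe u

namespace Groth.Agent.Lib.Lead.FFAlg

open TensorProduct

/-- TASK B3. -/
theorem isAdicComplete_of_finite_of_isNoetherianRing {A : Type u} [CommRing A] [IsNoetherianRing A]
    (I : Ideal A) [IsAdicComplete I A] (H : Type u) [AddCommGroup H] [Module A H] [Module.Finite A H] :
    IsAdicComplete I H := by
  rw [← AdicCompletion.of_bijective_iff]
  have hA : Function.Bijective (AdicCompletion.of I A) := AdicCompletion.of_bijective_iff.mpr inferInstance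
  -- the composite `H ≃ A ⊗ H → Â ⊗ H → Ĥ`
  let eA : A ≃ₗ[A] AdicCompletion I A := LinearEquiv.ofBijective (AdicCompletion.of I A) hA
  let e1 : H ≃ₗ[A] A ⊗[A] H := (TensorProduct.lid A H).symm
  let e2 : A ⊗[A] H ≃ₗ[A] AdicCompletion I A ⊗[A] H := TensorProduct.congr eA (LinearEquiv.refl A H)
  have h3 := AdicCompletion.ofTensorProduct_bijective_of_finite_of_isNoetherian I H
  have hcomp : (AdicCompletion.of I H : H → AdicCompletion I H) =
      (AdicCompletion.ofTensorProduct I H) ∘ e2 ∘ e1 := by
    funext x
    simp only [Function.comp_apply, e1, e2, TensorProduct.lid_symm_apply, TensorProduct.congr_tmul,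
      LinearEquiv.refl_apply, AdicCompletion.ofTensorProduct_tmul]
    have h1 : (AdicCompletion.of I A) 1 = 1 := by
      apply AdicCompletion.ext
      intro n
      simp
    simp [eA, h1]
  rw [hcomp]
  exact h3.comp (e2.bijective.comp e1.bijective)

end Groth.Agent.Lib.Lead.FFAlg
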